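import Cfsg.Agent.Lib.FusionBasics.Meet.Main
import Cfsg.Agent.Lib.FusionBasics.Central.Quasisimple
import Cfsg.Agent.Lib.FusionSub.CoreComponent

/-!
A normal subsystem contains every component whose subgroup it covers; the layer exists.
-/

set_option autoImplicit false
set_option linter.style.haveILetI false
set_option linter.unusedSectionVars false

namespace CfsgLib.FusionBasics.Layer

open Cfsg Cfsg.FusionSystem CfsgLib.Alperin CfsgLib.FusionBasics CfsgLib.FusionSub
open CfsgLib.FusionBasics.Meet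

universe u

variable {Ω : Type u} [Group Ω] {S T T₁ T₂ U : Subgroup Ω} {p : ℕ} [Fact p.Prime]

/-- A weakly normal subsystem over the same subgroup has index prime to `p`. -/
theorem hasPrimeToPIndexIn_of_weaklyNormal [Finite U] {C N : FusionSystem U}
    (h : N.IsWeaklyNormalIn C p) : N.HasPrimeToPIndexIn C p := by
  obtain ⟨-, hC, hi⟩ := h
  refine ⟨hi.1, fun P hP => Subgroup.map_le_iff_le_comap.mpr ((Subgroup.closure_le _).mpr ?_)⟩
  rintro ⟨β, hβ⟩ ⟨k, hk⟩
  show β ∈ N.autGroup P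
  obtain ⟨Q, ⟨φ, hφ, hφQ⟩, ⟨hQ, R, hR⟩, -⟩ := hC P hP
  let e : P ≃* Q := isoOfHom φ (C.injective_of_mem hφ) hφQ
  have he : InHom C e := mem_of_apply_eq hφ fun _ => rfl
  set H : Subgroup (C.autGroup Q) := (N.autGroup Q).subgroupOf (C.autGroup Q) with hH
  haveI : H.Normal := ⟨fun n hn g => conj_mem_sub hi hQ g.2 hn⟩
  have hRH : (R : Subgroup (C.autGroup Q)) ≤ H := by
    rw [hR]
    exact fun x hx => autInducedBy_le_autGroup N hQ hx
  haveI := finite_of_le hQ
  haveI := finite_mulAut (P := Q)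
  have hm : H.index.Coprime p :=
    Nat.Coprime.coprime_dvd_left (Subgroup.index_dvd_of_le hRH)
      ((Fact.out : p.Prime).coprime_iff_not_dvd.mpr R.not_dvd_index).symm
  have hβ' : MulAut.congr e β ∈ C.autGroup Q :=
    congr_mem (F := C) he hβ
  have h1 : (⟨_, hβ'⟩ : C.autGroup Q) ∈ H := by
    refine mem_of_pow_mem_of_coprime (k := k) ?_ hm (Subgroup.pow_index_mem H _)
    refine Subtype.ext ?_
    have hb : β ^ p ^ k = 1 := by
      have := congrArg Subtype.val (pow_orderOf_eq_one (⟨β, hβ⟩ : C.autGroup P))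
      rwa [hk] at this
    show MulAut.congr e β ^ p ^ k = 1
    rw [← map_pow, hb, map_one]
  have h2 : MulAut.congr e.symm (MulAut.congr e β) ∈ N.autGroup P :=
    congr_mem_sub hi he.symm hQ h1
  rwa [show MulAut.congr e.symm (MulAut.congr e β) = β from
    MulEquiv.ext fun x => by simp [MulAut.congr]] at h2

/-- A weakly normal subsystem of a quasisimple system over the same subgroup is the whole. -/
theorem le_of_quasisimple [Finite U] (hU : IsPGroup p U) {C : FusionSystem U}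
    (hq : C.Quasisimple p) {N : FusionSystem U} (hN : N.IsWeaklyNormalIn C p) :
    C.IsSubsystemOf N := by
  obtain ⟨X, hX⟩ := exists_isPPrimeResidual hU hq.1
  obtain rfl := Central.pPrimeResidual_quasisimple hU hq hX
  exact hX.2.2 N hN.1 (hasPrimeToPIndexIn_of_weaklyNormal hN)

/-- A normal subsystem contains every component lying over one of its subgroups. -/
theorem component_le {C : FusionSystem U} {F : FusionSystem S} (hsub : C.IsSubnormalIn F p) :
    C.Quasisimple p → ∀ [Fact p.Prime] [Finite S], IsPGroup p S → ∀ {T : Subgroup Ω}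
      {D : FusionSystem T}, D.IsNormalIn F p → U ≤ T → C.IsSubsystemOf D := by
  induction hsub with
  | refl F p =>
    intro hq _ _ hS T D hD hUT
    obtain rfl := le_antisymm hD.1.2.2.2.1.1 hUT
    exact le_of_quasisimple hS hq hD.1
  | step hCD hDF ih =>
    intro hq _ _ hS T D hD hUT
    have hVS := hDF.1.2.2.2.1.1
    haveI := finite_of_le hVS
    obtain ⟨M, ⟨-, hM₁, hM₂⟩, -⟩ := exists_meet hS hDF.1.2.1 hDF hD
    have := ih hq (isPGroup_of_le hS hVS) hM₁
      (le_inf (subsystem_le (CoreComponent.subnormal_isSubsystemOf hCD)) hUT)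
    exact fun P φ hφ => hM₂.1.2.2.1 P (this P hφ)

/-- A saturated system is normal in itself. -/
theorem isNormalIn_self [Finite S] {F : FusionSystem S} (hF : F.IsSaturated p) :
    F.IsNormalIn F p := by
  refine ⟨⟨hF, hF, fun _ _ h => h, CfsgLib.FusionSub.stronglyClosed_self F,
    fun P hP φ hφ α hα => ?_, fun P hP φ hφ => ⟨1, Subgroup.one_mem _, φ, hφ, fun _ _ => rfl⟩⟩,
    fun α hα => ?_⟩
  · have hαF := (mem_autGroup_iff F le_rfl).mp hα
    obtain ⟨θ, hθ, hθr, hθx, -⟩ := exists_inverse (restrict_mem hαF hP)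
      (range_comp_inclusion _ hP)
    have hm : ∀ y, θ y ∈ P := fun y => hθr.le ⟨y, rfl⟩
    refine ⟨_, F.comp_mem (F.comp_mem hθ hφ hm) hαF (fun y => apply_mem hφ _),
      fun x hφx hαx => ?_⟩
    refine congrArg (S.subtype.comp α.toMonoidHom) (Subtype.ext ?_)
    exact congrArg φ (Subtype.ext (hθx x hαx))
  · have key : ∀ R : Subgroup Ω, R = S → ∀ hle : S ≤ R, ∃ β ∈ F.autGroup R,
        ∀ x : S, ((β (Subgroup.inclusion hle x) : R) : Ω) = ((α x : S) : Ω) := by
      intro R hR hle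
      subst hR
      exact ⟨α, hα, fun x => rfl⟩
    obtain ⟨β, hβ, hβα⟩ := key _ (sup_eq_left.mpr (centralizerIn_le S S)) le_sup_left
    refine ⟨β, hβ, hβα, fun c hc => ⟨?_, fun y hy => ?_⟩⟩
    · rw [show ((β c : ↥(S ⊔ centralizerIn S S)) : Ω) = _ from
        hβα ⟨c, hc.1⟩]
      exact S.mul_mem (S.inv_mem hc.1) (α _).2
    · obtain ⟨x, hx⟩ := α.surjective ⟨y, hy⟩
      rw [show ((β c : ↥(S ⊔ centralizerIn S S)) : Ω) = _ from hβα ⟨c, hc.1⟩]
      have h1 : y * (α ⟨c, hc.1⟩ : S) = (α ⟨c, hc.1⟩ : S) * y := by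
        rw [show y = ((α x : S) : Ω) from (congrArg Subtype.val hx).symm]
        show ((α x * α ⟨c, hc.1⟩ : S) : Ω) = ((α ⟨c, hc.1⟩ * α x : S) : Ω)
        rw [← map_mul, ← map_mul]
        exact congrArg (fun z : S => ((α z : S) : Ω)) (Subtype.ext (hc.2 x x.2))
      have h2 : y * (c : Ω)⁻¹ = (c : Ω)⁻¹ * y := Subgroup.inv_mem _ hc.2 y hy
      rw [← mul_assoc, h2, mul_assoc, h1, mul_assoc]

/-- The system over a smaller subgroup below two normal subsystems. -/
theorem exists_lower [Finite S] (hS : IsPGroup p S) {F : FusionSystem S} (hF : F.IsSaturated p)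
    {D₁ : FusionSystem T₁} {D₂ : FusionSystem T₂} (h₁ : D₁.IsNormalIn F p)
    (h₂ : D₂.IsNormalIn F p) (h : T₁ ≤ T₂) :
    ∃ M : FusionSystem T₁, M.IsNormalIn F p ∧ M.IsSubsystemOf D₁ ∧ M.IsSubsystemOf D₂ := by
  obtain ⟨M, ⟨hM, hM₁, hM₂⟩, -⟩ := exists_meet hS hF h₁ h₂
  suffices key : ∀ R : Subgroup Ω, R = T₁ → ∀ M : FusionSystem R, M.IsNormalIn F p →
      M.IsSubsystemOf D₁ → M.IsSubsystemOf D₂ → _ from
    key _ (inf_eq_left.mpr h) M hM hM₁.1.2.2.1 hM₂.1.2.2.1
  rintro R rfl M hM h1 h2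
  exact ⟨M, hM, h1, h2⟩

/-- The maps of `F` with a given source are finite in number. -/
theorem finite_homSet [Finite S] (F : FusionSystem S) (P : Subgroup Ω) (hP : P ≤ S) :
    Finite ↥(F.Hom P) := by
  haveI := finite_of_le hP
  refine Finite.of_injective (fun φ : F.Hom P => fun x : P => (⟨φ.1 x, apply_mem φ.2 x⟩ : S)) ?_
  intro φ ψ h
  exact Subtype.ext (MonoidHom.ext fun x => congrArg Subtype.val (congrFun h x))

/-- The layer exists. -/
theorem exists_layer [Finite S] (hS : IsPGroup p S) {F : FusionSystem S} (hF : F.IsSaturated p) :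
    ∃ (T : Subgroup Ω) (E : FusionSystem T), E.IsLayerOf F p := by
  classical
  let Good : Subgroup Ω → Prop := fun R => ∃ D : FusionSystem R, D.IsNormalIn F p ∧
    ∀ (V : Subgroup Ω) (C : FusionSystem V), C.IsComponentIn F p → C.IsSubsystemOf D
  have hex : ∃ n, ∃ R, Good R ∧ Nat.card R = n :=
    ⟨_, S, ⟨F, isNormalIn_self hF, fun V C hC => CoreComponent.subnormal_isSubsystemOf hC.1⟩, rfl⟩
  obtain ⟨T, ⟨D₀, hD₀, hD₀c⟩, hTcard⟩ := Nat.find_spec hex
  have hle : ∀ (R : Subgroup Ω) (D : FusionSystem R), D.IsNormalIn F p →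
      (∀ (V : Subgroup Ω) (C : FusionSystem V), C.IsComponentIn F p → C.IsSubsystemOf D) →
      T ≤ R := by
    intro R D hD hDc
    obtain ⟨M, ⟨hM, -, -⟩, -⟩ := exists_meet hS hF hD₀ hD
    have hMc : Good (T ⊓ R) := ⟨M, hM, fun V C hC =>
      component_le hC.1 hC.2 hS hM (le_inf (subsystem_le (hD₀c V C hC))
        (subsystem_le (hDc V C hC)))⟩
    haveI := finite_of_le hD₀.1.2.2.2.1.1
    have h1 : Nat.card T ≤ Nat.card ↥(T ⊓ R) := hTcard.le.trans (Nat.find_le ⟨_, hMc, rfl⟩)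
    exact inf_eq_left.mp (Subgroup.eq_of_le_of_card_ge inf_le_left h1)
  have hTS : T ≤ S := hD₀.1.2.2.2.1.1
  haveI := finite_of_le hTS
  haveI : ∀ P : {P : Subgroup Ω // P ≤ S}, Finite ↥(F.Hom P.1) :=
    fun P => finite_homSet F P.1 P.2
  haveI : Finite {P : Subgroup Ω // P ≤ S} :=
    Finite.of_injective (fun P => P.1.subgroupOf S) fun P Q h => Subtype.ext (by
      have := congrArg (Subgroup.map S.subtype) h
      simpa [Subgroup.map_subgroupOf_eq_of_le, P.2, Q.2] using this)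
  let enc : FusionSystem T → (P : {P : Subgroup Ω // P ≤ S}) → Set ↥(F.Hom P.1) :=
    fun D P => {φ | φ.1 ∈ D.Hom P.1}
  let N : Set ((P : {P : Subgroup Ω // P ≤ S}) → Set ↥(F.Hom P.1)) :=
    enc '' {D | D.IsNormalIn F p}
  obtain ⟨i, hi⟩ := Set.Finite.exists_minimal (Set.toFinite N) ⟨_, D₀, hD₀, rfl⟩
  obtain ⟨E, hE, rfl⟩ := hi.1
  have hleast : ∀ (R : Subgroup Ω) (D : FusionSystem R), D.IsNormalIn F p → T ≤ R →
      E.IsSubsystemOf D := by
    intro R D hD hTR P φ hφ
    obtain ⟨M, hM, hME, hMD⟩ := exists_lower hS hF hE hD hTR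
    have h1 : enc E ≤ enc M := hi.2 ⟨M, hM, rfl⟩ fun P φ hφ => hME P.1 hφ
    have hφF : φ ∈ F.Hom P := hE.1.2.2.1 P hφ
    exact hMD P (h1 ⟨P, dom_le hφF⟩ (show (⟨φ, hφF⟩ : F.Hom P).1 ∈ E.Hom P from hφ))
  exact ⟨T, E, hE, fun V C hC => component_le hC.1 hC.2 hS hE (subsystem_le (hD₀c V C hC)),
    fun R D hD hDc => hleast R D hD (hle R D hD hDc)⟩

end CfsgLib.FusionBasics.Layer
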